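import Mathlib
import Groth.Agent.EquidimLib.DimBetween

/-! Van der Waerden purity for the exceptional locus of a proper birational morphism to a locally
factorial scheme. -/

set_option autoImplicit false
set_option backward.isDefEq.respectTransparency false
universe u

open CategoryTheory CategoryTheory.Limits AlgebraicGeometry TopologicalSpace

namespace VdWPurityLib

variable {X Y : Scheme.{u}} (f : X ⟶ Y)

/-- The exceptional locus. -/
def exc : Set X := {x : X | ∀ V : Y.Opens, f x ∈ V → ¬ IsIso (f ∣_ V)}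

theorem notMem_exc_iff {x : X} : x ∉ exc f ↔ ∃ V : Y.Opens, f x ∈ V ∧ IsIso (f ∣_ V) := by
  simp [exc, not_forall]

theorem isClosed_exc : IsClosed (exc f) := by
  refine isOpen_compl_iff.1 (isOpen_iff_forall_mem_open.2 fun x hx => ?_)
  obtain ⟨V, hV, hiso⟩ := (notMem_exc_iff f).1 hx
  exact ⟨(f ⁻¹ᵁ V : X.Opens), fun w hw hw' => hw' V hw hiso, (f ⁻¹ᵁ V).2, hV⟩

theorem isIso_stalkMap_of_isIso_restrict {V : Y.Opens} [IsIso (f ∣_ V)] {w : X} (hw : f w ∈ V) :
    IsIso (f.stalkMap w) := by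
  have h : IsIso ((f ∣_ V).stalkMap ⟨w, hw⟩) := inferInstance
  exact ((MorphismProperty.isomorphisms CommRingCat).arrow_mk_iso_iff
    (morphismRestrictStalkMap f V ⟨w, hw⟩)).1 h

variable [IsIntegral X] [IsIntegral Y]

theorem exists_preimage_mem {V₀ : Y.Opens} (hV₀ : (V₀ : Set Y).Nonempty) [IsIso (f ∣_ V₀)] {O : Y.Opens}
    (hO : (O : Set Y).Nonempty) : ∃ x : X, f x ∈ O ⊓ V₀ := by
  obtain ⟨y, hy⟩ := nonempty_preirreducible_inter O.2 V₀.2 hO hV₀
  obtain ⟨x, hx⟩ := (f ∣_ V₀).surjective ⟨y, hy.2⟩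
  refine ⟨x.1, ?_⟩
  have : f x.1 = y := (morphismRestrict_base_coe f V₀ x).symm.trans (congrArg Subtype.val hx)
  rw [this]; exact hy

theorem bijective_app_of_le {V₀ : Y.Opens} [IsIso (f ∣_ V₀)] {O : Y.Opens} (hO : O ≤ V₀) :
    Function.Bijective (f.app O) := by
  haveI : IsIso (f ∣_ O) := by
    have := IsZariskiLocalAtTarget.restrict (P := MorphismProperty.isomorphisms Scheme)
      (show (MorphismProperty.isomorphisms Scheme) (f ∣_ V₀) from inferInstance) (V₀.ι ⁻¹ᵁ O)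
    have h2 := ((MorphismProperty.isomorphisms Scheme).arrow_mk_iso_iff
      (morphismRestrictRestrict f V₀ (V₀.ι ⁻¹ᵁ O))).1 this
    have himg : V₀.ι ''ᵁ (V₀.ι ⁻¹ᵁ O) = O := by
      ext1
      show _ '' (_ ⁻¹' _) = _
      exact Set.image_preimage_eq_of_subset (by simpa using hO)
    rwa [himg] at h2
  have key : ∀ O' : Y.Opens, O' = O → IsIso (f.app O') → IsIso (f.app O) := by
    rintro _ rfl h; exact h
  have h3 : IsIso (f ∣_ O).appTop := inferInstance
  rw [morphismRestrict_appTop, isIso_comp_right_iff] at h3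
  haveI := key _ (Scheme.Opens.ι_image_top O) h3
  exact ConcreteCategory.bijective_of_isIso (f.app O)

theorem app_injective {V₀ : Y.Opens} (hV₀ : (V₀ : Set Y).Nonempty) [IsIso (f ∣_ V₀)] (V : Y.Opens) :
    Function.Injective (f.app V) := by
  by_cases hV : (V : Set Y).Nonempty
  swap
  · have : V = ⊥ := by
      ext1
      simpa [Set.not_nonempty_iff_eq_empty] using hV
    subst this
    haveI := CommRingCat.subsingleton_of_isTerminal Y.sheaf.isTerminalOfEmpty
    exact fun a b _ => @Subsingleton.elim _ this a b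
  intro a b hab
  obtain ⟨x, hx⟩ := exists_preimage_mem f hV₀ hV
  haveI : Nonempty (V ⊓ V₀ : Y.Opens).toScheme := ⟨⟨f x, hx⟩⟩
  refine map_injective_of_isIntegral (X := Y) (homOfLE (inf_le_left : V ⊓ V₀ ≤ V))
    ((bijective_app_of_le f inf_le_right).1 ?_)
  rw [← CommRingCat.comp_apply, ← CommRingCat.comp_apply, f.naturality, CommRingCat.comp_apply,
    CommRingCat.comp_apply, hab]

theorem stalkMap_injective {V₀ : Y.Opens} (hV₀ : (V₀ : Set Y).Nonempty) [IsIso (f ∣_ V₀)] (x : X) :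
    Function.Injective (f.stalkMap x) := by
  refine (injective_iff_map_eq_zero _).2 fun s hs => ?_
  obtain ⟨V, hV, a, rfl⟩ := Y.presheaf.exists_germ_eq s
  rw [← CommRingCat.comp_apply, f.germ_stalkMap, CommRingCat.comp_apply, ← map_zero (X.presheaf.germ (f ⁻¹ᵁ V) x hV).hom] at hs
  have h0 := germ_injective_of_isIntegral X x hV hs
  rw [← map_zero (f.app V).hom] at h0
  rw [app_injective f hV₀ V h0, map_zero]

/-- Sections upstairs are fractions of sections downstairs. -/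
theorem exists_frac {V₀ : Y.Opens} (hV₀ : (V₀ : Set Y).Nonempty) [IsIso (f ∣_ V₀)] {V : Y.Opens}
    (hV : IsAffineOpen V) {y : Y} (hy : y ∈ V) {W : X.Opens} (hWV : W ≤ f ⁻¹ᵁ V) (hW : (W : Set X).Nonempty)
    (c : Γ(X, W)) : ∃ s a : Γ(Y, V), s ≠ 0 ∧ f.appLE V W hWV s * c = f.appLE V W hWV a := by
  obtain ⟨w, hw⟩ := exists_preimage_mem f hV₀ (O := V) ⟨y, hy⟩
  -- an open of `Y` over which everything lives in `W`
  obtain ⟨z, hzW, hz₀⟩ := nonempty_preirreducible_inter W.2 (f ⁻¹ᵁ V₀).2 hW ⟨w, hw.2⟩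
  let W' : (f ⁻¹ᵁ V₀ : X.Opens).toScheme.Opens := (f ⁻¹ᵁ V₀).ι ⁻¹ᵁ W
  let O : Y.Opens := V₀.ι ''ᵁ (inv (f ∣_ V₀) ⁻¹ᵁ W')
  have hOz : f z ∈ O := by
    refine ⟨(f ∣_ V₀) ⟨z, hz₀⟩, ?_, morphismRestrict_base_coe f V₀ ⟨z, hz₀⟩⟩
    show inv (f ∣_ V₀) ((f ∣_ V₀) ⟨z, hz₀⟩) ∈ W'
    rw [← Scheme.Hom.comp_apply, IsIso.hom_inv_id]
    exact hzW
  obtain ⟨s, hsO, hzs⟩ := hV.exists_basicOpen_le (V := O ⊓ V₀) ⟨f z, hOz, hz₀⟩ (hWV hzW)
  have hpre : f ⁻¹ᵁ Y.basicOpen s ≤ W := by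
    intro v hv
    obtain ⟨⟨t, ht₀⟩, ht, htv⟩ := (hsO hv).1
    have hv₀ : v ∈ f ⁻¹ᵁ V₀ := (hsO hv).2
    have heq : (⟨t, ht₀⟩ : V₀) = (f ∣_ V₀) ⟨v, hv₀⟩ :=
      Subtype.ext (htv.trans (morphismRestrict_base_coe f V₀ ⟨v, hv₀⟩).symm)
    rw [heq] at ht
    have ht' : inv (f ∣_ V₀) ((f ∣_ V₀) ⟨v, hv₀⟩) ∈ W' := ht
    rw [← Scheme.Hom.comp_apply, IsIso.hom_inv_id] at ht'
    exact ht'
  obtain ⟨t, ht⟩ := (bijective_app_of_le f (hsO.trans inf_le_right)).2 (X.presheaf.map (homOfLE hpre).op c)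
  haveI : IsLocalization.Away s Γ(Y, Y.basicOpen s) := hV.isLocalization_basicOpen s
  obtain ⟨n, a, ha⟩ := IsLocalization.Away.surj s t
  haveI : Nonempty (f ⁻¹ᵁ Y.basicOpen s).toScheme := ⟨⟨z, hzs⟩⟩
  refine ⟨s ^ n, a, fun h0 => ?_, map_injective_of_isIntegral (X := X) (homOfLE hpre) ?_⟩
  · have : f z ∈ Y.basicOpen (s ^ n) := by
      rcases Nat.eq_zero_or_pos n with rfl | hn
      · rw [pow_zero, Y.basicOpen_of_isUnit isUnit_one]; exact hWV hzW
      · rwa [Scheme.basicOpen_pow _ _ hn]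
    rw [h0, Scheme.basicOpen_zero] at this
    exact this
  have key : ∀ r : Γ(Y, V), X.presheaf.map (homOfLE hpre).op (f.appLE V W hWV r) =
      f.app (Y.basicOpen s) (Y.presheaf.map (homOfLE (Y.basicOpen_le s)).op r) := fun r => by
    rw [← CommRingCat.comp_apply, ← CommRingCat.comp_apply, Scheme.Hom.appLE_map, Scheme.Hom.app_eq_appLE,
      Scheme.Hom.map_appLE]
  rw [map_mul, key, key, ← ht, ← map_mul]
  congr 1
  rw [mul_comm, map_pow]
  exact ha

variable [IsSeparated f]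

/-- A point with the local ring of its image is alone in its fibre. -/
theorem eq_of_isIso_stalkMap {V₀ : Y.Opens} (hV₀ : (V₀ : Set Y).Nonempty) [IsIso (f ∣_ V₀)] {x x' : X}
    [IsIso (f.stalkMap x)] (h : f x' = f x) : x' = x := by
  let φ : X.presheaf.stalk x ⟶ X.presheaf.stalk x' :=
    inv (f.stalkMap x) ≫ (Y.presheaf.stalkCongr (.of_eq h.symm)).hom ≫ f.stalkMap x'
  haveI : IsLocalHom φ.hom := by
    dsimp only [φ, CommRingCat.hom_comp]
    infer_instance
  have hcomp : Spec.map φ ≫ X.fromSpecStalk x ≫ f = X.fromSpecStalk x' ≫ f := by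
    rw [← Scheme.SpecMap_stalkMap_fromSpecStalk, ← Scheme.SpecMap_stalkMap_fromSpecStalk, ← Spec.map_comp_assoc]
    simp only [φ, IsIso.hom_inv_id_assoc, Spec.map_comp, Category.assoc]
    congr 1
    exact Scheme.SpecMap_stalkSpecializes_fromSpecStalk (Inseparable.of_eq h).specializes
  haveI : IsReduced (Spec (X.presheaf.stalk x')) := inferInstance
  let g₁ := Spec.map φ ≫ X.fromSpecStalk x
  let g₂ := X.fromSpecStalk x'
  let O : (Spec (X.presheaf.stalk x')).Opens := g₂ ⁻¹ᵁ (f ⁻¹ᵁ V₀)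
  have hO : (O : Set (Spec (X.presheaf.stalk x'))).Nonempty := by
    obtain ⟨w, hw⟩ := exists_preimage_mem f hV₀ (O := ⊤) ⟨f x, trivial⟩
    have hgen : genericPoint X ∈ f ⁻¹ᵁ V₀ :=
      ((genericPoint_spec X).mem_open_set_iff (f ⁻¹ᵁ V₀).2).2 ⟨w, trivial, hw.2⟩
    obtain ⟨q, hq⟩ : genericPoint X ∈ Set.range g₂ := by
      rw [Scheme.range_fromSpecStalk]
      exact (genericPoint_spec X).specializes trivial
    exact ⟨q, show g₂ q ∈ f ⁻¹ᵁ V₀ by rw [hq]; exact hgen⟩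
  haveI : IsDominant O.ι := ⟨by
    rw [DenseRange, Scheme.Opens.range_ι]
    exact O.2.dense hO⟩
  have heq : g₁ = g₂ := by
    refine ext_of_isDominant_of_isSeparated f (by simpa [g₁, g₂] using hcomp) O.ι ?_
    have hr2 : Set.range (O.ι ≫ g₂) ⊆ Set.range (f ⁻¹ᵁ V₀).ι := by
      rintro _ ⟨q, rfl⟩
      rw [Scheme.Opens.range_ι]
      exact q.2
    have hr1 : Set.range (O.ι ≫ g₁) ⊆ Set.range (f ⁻¹ᵁ V₀).ι := by
      rintro _ ⟨q, rfl⟩
      rw [Scheme.Opens.range_ι]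
      show f ((O.ι ≫ g₁) q) ∈ V₀
      have h1 : ((O.ι ≫ g₁) ≫ f) q = ((O.ι ≫ g₂) ≫ f) q := by
        simp only [g₁, g₂, Category.assoc, hcomp]
      rw [← Scheme.Hom.comp_apply, h1]
      exact q.2
    rw [← IsOpenImmersion.lift_fac _ _ hr1, ← IsOpenImmersion.lift_fac _ _ hr2]
    congr 1
    rw [← cancel_mono (f ∣_ V₀), ← cancel_mono V₀.ι]
    simp only [Category.assoc, morphismRestrict_ι, IsOpenImmersion.lift_fac_assoc]
    simp only [g₁, g₂, Category.assoc, hcomp]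
  have h2 := congrArg (fun m => m.base (IsLocalRing.closedPoint (X.presheaf.stalk x'))) heq
  simp only [g₁, g₂] at h2
  change X.fromSpecStalk x (PrimeSpectrum.comap φ.hom (IsLocalRing.closedPoint (X.presheaf.stalk x'))) =
    X.fromSpecStalk x' (IsLocalRing.closedPoint (X.presheaf.stalk x')) at h2
  rw [IsLocalRing.comap_closedPoint φ.hom] at h2
  rwa [Scheme.fromSpecStalk_closedPoint, Scheme.fromSpecStalk_closedPoint, eq_comm] at h2

theorem notMem_exc_of_isIso_stalkMap [IsProper f] {V₀ : Y.Opens} (hV₀ : (V₀ : Set Y).Nonempty)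
    [IsIso (f ∣_ V₀)] {x : X} [IsIso (f.stalkMap x)] : x ∉ exc f := by
  obtain ⟨_, ⟨V, hV, rfl⟩, hxV, -⟩ :=
    Y.isBasis_affineOpens.exists_subset_of_mem_open (Set.mem_univ (f x)) isOpen_univ
  obtain ⟨W, hW, hxW, hWV⟩ := Opens.isBasis_iff_nbhd.1 X.isBasis_affineOpens (U := f ⁻¹ᵁ V) (x := x) hxV
  algebraize [(f.appLE V W hWV).hom]
  haveI : Algebra.FiniteType Γ(Y, V) Γ(X, W) := f.finiteType_appLE hV hW hWV
  obtain ⟨T, hT⟩ := Algebra.FiniteType.out (R := Γ(Y, V)) (A := Γ(X, W))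
  have hfrac : ∀ c : Γ(X, W), ∃ s a : Γ(Y, V), f x ∈ Y.basicOpen s ∧ f.appLE V W hWV s * c = f.appLE V W hWV a := by
    intro c
    obtain ⟨σ, hσ⟩ := (ConcreteCategory.bijective_of_isIso (f.stalkMap x)).2 (X.presheaf.germ W x hxW c)
    letI := Y.presheaf.algebra_section_stalk (⟨f x, hxV⟩ : V)
    haveI := hV.isLocalization_stalk ⟨f x, hxV⟩
    obtain ⟨⟨a, s, hs⟩, hsa⟩ := IsLocalization.surj (hV.primeIdealOf ⟨f x, hxV⟩).asIdeal.primeCompl σ
    refine ⟨s, a, ?_, ?_⟩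
    · have h : hV.primeIdealOf ⟨f x, hxV⟩ ∈ hV.fromSpec ⁻¹ᵁ Y.basicOpen s := by
        rw [hV.fromSpec_preimage_basicOpen]; exact hs
      have h' : hV.fromSpec (hV.primeIdealOf ⟨f x, hxV⟩) ∈ Y.basicOpen s := h
      rwa [hV.fromSpec_primeIdealOf] at h'
    · apply germ_injective_of_isIntegral X x hxW
      have key : ∀ r : Γ(Y, V), X.presheaf.germ W x hxW (f.appLE V W hWV r) =
          f.stalkMap x (Y.presheaf.germ V (f x) hxV r) := fun r => by
        rw [← CommRingCat.comp_apply, ← CommRingCat.comp_apply, f.germ_stalkMap, Scheme.Hom.appLE, Category.assoc,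
          X.presheaf.germ_res]
      rw [map_mul, key, key, ← hσ, ← map_mul, mul_comm]
      exact congrArg _ hsa
  choose s a hs hsa using hfrac
  let s₀ : Γ(Y, V) := ∏ c ∈ T, s c
  -- keep the preimage inside `W`
  let K : Set Y := f '' ((W : Set X)ᶜ)
  have hK : IsClosed K := f.isClosedMap _ W.2.isClosed_compl
  have hyK : f x ∉ K := by
    rintro ⟨x', hx', hxx'⟩
    exact hx' (eq_of_isIso_stalkMap f hV₀ hxx' ▸ hxW)
  have hy0 : f x ∈ Y.basicOpen s₀ := by
    show f x ∈ Y.basicOpen (∏ c ∈ T, s c)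
    classical
    clear s₀ hT
    induction T using Finset.induction with
    | empty => rw [Finset.prod_empty, Y.basicOpen_of_isUnit isUnit_one]; exact hxV
    | insert c T hc ih => rw [Finset.prod_insert hc, Scheme.basicOpen_mul]; exact ⟨hs c, ih⟩
  obtain ⟨r, hr, hyr⟩ := hV.exists_basicOpen_le (V := Y.basicOpen s₀ ⊓ ⟨Kᶜ, hK.isOpen_compl⟩) ⟨f x, hy0, hyK⟩ hxV
  refine (notMem_exc_iff f).2 ⟨Y.basicOpen r, hyr, ?_⟩
  have hpre : f ⁻¹ᵁ Y.basicOpen r = X.basicOpen (f.appLE V W hWV r) := by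
    rw [Scheme.Hom.appLE, CommRingCat.comp_apply, Scheme.basicOpen_res, ← f.preimage_basicOpen, eq_comm, inf_eq_right]
    intro v hv
    by_contra hvW
    exact (hr hv).2 ⟨v, hvW, rfl⟩
  have haff : IsAffineOpen (f ⁻¹ᵁ Y.basicOpen r) := hpre ▸ hW.basicOpen _
  haveI : IsAffine (Y.basicOpen r).toScheme := hV.basicOpen r
  haveI : IsAffine (f ⁻¹ᵁ Y.basicOpen r).toScheme := haff
  suffices h : IsIso (f.app (Y.basicOpen r)) by
    refine (HasAffineProperty.iff_of_isAffine (P := MorphismProperty.isomorphisms Scheme)).2 ⟨haff, ?_⟩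
    rw [morphismRestrict_appTop, isIso_comp_right_iff]
    have key : ∀ O : Y.Opens, O = Y.basicOpen r → IsIso (f.app O) := by rintro _ rfl; exact h
    exact key _ (Scheme.Opens.ι_image_top _)
  rw [ConcreteCategory.isIso_iff_bijective]
  refine ⟨app_injective f hV₀ _, fun c => ?_⟩
  have hle : f ⁻¹ᵁ Y.basicOpen r ≤ W := hpre ▸ X.basicOpen_le _
  let ι' : Γ(Y, V) →+* Γ(Y, Y.basicOpen r) := (Y.presheaf.map (homOfLE (Y.basicOpen_le r)).op).hom
  let res : Γ(X, W) →+* Γ(X, f ⁻¹ᵁ Y.basicOpen r) := (X.presheaf.map (homOfLE hle).op).hom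
  have hsq : ∀ b, f.app (Y.basicOpen r) (ι' b) = res (f.appLE V W hWV b) := fun b => by
    show (Y.presheaf.map _ ≫ f.app _) b = (f.appLE V W hWV ≫ X.presheaf.map _) b
    rw [Scheme.Hom.appLE_map, Scheme.Hom.app_eq_appLE, Scheme.Hom.map_appLE]
  let R₁ : Subring Γ(X, f ⁻¹ᵁ Y.basicOpen r) := (f.app (Y.basicOpen r)).hom.range
  have hres : ∀ b : Γ(X, W), res b ∈ R₁ := by
    intro b
    have hb : b ∈ Algebra.adjoin Γ(Y, V) (T : Set Γ(X, W)) := by rw [hT]; trivial
    induction hb using Algebra.adjoin_induction with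
    | mem c hc =>
      have hu : IsUnit (ι' (s c)) := by
        have hle' : Y.basicOpen r ≤ Y.basicOpen (s c) := by
          intro v hv
          have hv0 := (hr hv).1
          have : Y.basicOpen s₀ ≤ Y.basicOpen (s c) := by
            show Y.basicOpen (∏ c ∈ T, s c) ≤ _
            classical
            rw [← Finset.mul_prod_erase T s hc, Scheme.basicOpen_mul]
            exact inf_le_left
          exact this hv0
        have h1 := RingedSpace.isUnit_res_basicOpen Y.toLocallyRingedSpace.toRingedSpace (s c)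
        have h2 := h1.map (Y.presheaf.map (homOfLE hle').op).hom
        have h3 : IsUnit ((Y.presheaf.map (homOfLE (Y.basicOpen_le (s c))).op ≫ Y.presheaf.map (homOfLE hle').op) (s c)) := h2
        rw [← Functor.map_comp] at h3
        exact h3
      obtain ⟨v, hv⟩ := hu.exists_left_inv
      refine ⟨v * ι' (a c), ?_⟩
      show f.app (Y.basicOpen r) (v * ι' (a c)) = res c
      rw [map_mul, hsq, ← hsa c, map_mul, ← hsq, ← mul_assoc, ← map_mul, hv, map_one, one_mul]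
    | algebraMap b => exact ⟨ι' b, hsq b⟩
    | add x y _ _ hx hy => rw [map_add]; exact R₁.add_mem hx hy
    | mul x y _ _ hx hy => rw [map_mul]; exact R₁.mul_mem hx hy
  letI : Algebra Γ(X, W) Γ(X, f ⁻¹ᵁ Y.basicOpen r) := res.toAlgebra
  haveI : IsLocalization.Away (f.appLE V W hWV r) Γ(X, f ⁻¹ᵁ Y.basicOpen r) :=
    hW.isLocalization_of_eq_basicOpen _ (homOfLE hle) hpre
  obtain ⟨n, b, hb⟩ := IsLocalization.Away.surj (f.appLE V W hWV r) c
  obtain ⟨v, hv⟩ : ∃ v, v * ι' r = 1 :=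
    (RingedSpace.isUnit_res_basicOpen Y.toLocallyRingedSpace.toRingedSpace r).exists_left_inv
  obtain ⟨d, hd⟩ := hres b
  refine ⟨v ^ n * d, ?_⟩
  rw [map_mul]
  erw [hd]
  rw [show res b = c * (algebraMap Γ(X, W) Γ(X, f ⁻¹ᵁ Y.basicOpen r) (f.appLE V W hWV r)) ^ n from hb.symm,
    show algebraMap Γ(X, W) Γ(X, f ⁻¹ᵁ Y.basicOpen r) (f.appLE V W hWV r) = f.app (Y.basicOpen r) (ι' r) from
      (hsq r).symm, mul_left_comm, ← map_pow, ← map_mul, ← mul_pow, hv, one_pow, map_one, mul_one]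

theorem two_le_height {R : Type u} [CommRing R] [IsDomain R] [UniqueFactorizationMonoid R] {a b : R}
    (hab : IsRelPrime a b) (hb : b ≠ 0) (q : Ideal R) [q.IsPrime] (ha' : a ∈ q) (hb' : b ∈ q) :
    (2 : ℕ∞) ≤ q.height := by
  have hq : q ≠ ⊥ := fun h => hb (by simpa [h] using hb')
  obtain ⟨π, hπq, hπ⟩ := Ideal.IsPrime.exists_mem_prime_of_ne_bot ‹q.IsPrime› hq
  haveI hπi : (Ideal.span {π}).IsPrime := (Ideal.span_singleton_prime hπ.ne_zero).2 hπ
  have hlt : Ideal.span {π} < q := lt_of_le_of_ne ((Ideal.span_singleton_le_iff_mem q).2 hπq) fun h => by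
    rw [← h, Ideal.mem_span_singleton] at ha' hb'
    exact hπ.not_unit (hab ha' hb')
  have h0 : (⊥ : Ideal R) < Ideal.span {π} := bot_lt_iff_ne_bot.2 (by simp [hπ.ne_zero])
  have h1 := Ideal.height_add_one_le_of_lt_of_isPrime h0
  have h2 := Ideal.height_add_one_le_of_lt_of_isPrime hlt
  calc (2 : ℕ∞) = 1 + 1 := rfl
    _ ≤ (Ideal.span {π}).height + 1 := add_le_add (le_trans le_add_self h1) le_rfl
    _ ≤ q.height := h2

theorem stalk_dim_stalkPt (x : X) (p : PrimeSpectrum (X.presheaf.stalk x)) :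
    ringKrullDim (X.presheaf.stalk (EquidimLib.stalkPt x p)) = p.asIdeal.height := by
  rw [EquidimLib.stalk_dim_eq, EquidimLib.height_eq_of_inducing (EquidimLib.isInducing_stalkPt x) p]
  exact congrArg (fun S : Set X => topologicalKrullDim ↥S) (Set.ext fun v =>
    ⟨fun hv => ⟨EquidimLib.exists_stalkPt ((hv : v ⤳ _).trans (EquidimLib.stalkPt_specializes x p)), hv⟩,
      fun h => h.2⟩)

/-- Every exceptional point is a specialization of an exceptional point with one-dimensional local ring. -/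
theorem exists_codim_one [IsProper f] [IsLocallyNoetherian X] {V₀ : Y.Opens} (hV₀ : (V₀ : Set Y).Nonempty)
    [IsIso (f ∣_ V₀)]
    (hufd : ∀ y : Y, UniqueFactorizationMonoid (Y.presheaf.stalk y))
    {x : X} (hx : x ∈ exc f) : ∃ w : X, w ⤳ x ∧ w ∈ exc f ∧ ringKrullDim (X.presheaf.stalk w) = 1 := by
  haveI := hufd (f x)
  have hinj := stalkMap_injective f hV₀ x
  have hnsurj : ¬ Function.Surjective (f.stalkMap x) := fun hs => by
    haveI : IsIso (f.stalkMap x) := (ConcreteCategory.isIso_iff_bijective _).2 ⟨hinj, hs⟩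
    exact notMem_exc_of_isIso_stalkMap f hV₀ hx
  obtain ⟨c, hc⟩ := not_forall.1 hnsurj
  obtain ⟨a₀, b₀, hb₀, hab₀⟩ : ∃ a b : Y.presheaf.stalk (f x), b ≠ 0 ∧ f.stalkMap x b * c = f.stalkMap x a := by
    obtain ⟨_, ⟨V, hV, rfl⟩, hxV, -⟩ :=
      Y.isBasis_affineOpens.exists_subset_of_mem_open (Set.mem_univ (f x)) isOpen_univ
    obtain ⟨W, hxW, c₀, hc₀⟩ := X.presheaf.exists_germ_eq c
    obtain ⟨s, a, hs, hsa⟩ := exists_frac f hV₀ hV hxV (W := W ⊓ f ⁻¹ᵁ V) inf_le_right ⟨x, hxW, hxV⟩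
      (X.presheaf.map (homOfLE inf_le_left).op c₀)
    have key : ∀ r : Γ(Y, V), X.presheaf.germ (W ⊓ f ⁻¹ᵁ V) x ⟨hxW, hxV⟩ (f.appLE V _ inf_le_right r) =
        f.stalkMap x (Y.presheaf.germ V (f x) hxV r) := fun r => by
      rw [← CommRingCat.comp_apply, ← CommRingCat.comp_apply, f.germ_stalkMap, Scheme.Hom.appLE, Category.assoc,
        X.presheaf.germ_res]
    refine ⟨Y.presheaf.germ V (f x) hxV a, Y.presheaf.germ V (f x) hxV s, fun h => hs ?_, ?_⟩
    · exact germ_injective_of_isIntegral Y (f x) hxV (h.trans (map_zero _).symm)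
    · have h := congrArg (X.presheaf.germ (W ⊓ f ⁻¹ᵁ V) x ⟨hxW, hxV⟩) hsa
      rw [map_mul, key, key, X.presheaf.germ_res_apply, hc₀] at h
      exact h
  obtain ⟨b, a, e, hrel, rfl, rfl⟩ := UniqueFactorizationMonoid.exists_reduced_factors b₀ hb₀ a₀
  have he : e ≠ 0 := left_ne_zero_of_mul hb₀
  have hb : b ≠ 0 := right_ne_zero_of_mul hb₀
  have hab : f.stalkMap x b * c = f.stalkMap x a := by
    rw [map_mul, map_mul, mul_assoc] at hab₀
    exact mul_left_cancel₀ (fun h => he (hinj (h.trans (map_zero _).symm))) hab₀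
  have hbu : ¬ IsUnit b := fun hu => hc ⟨↑hu.unit⁻¹ * a, by
    rw [map_mul, ← hab, ← mul_assoc, ← map_mul, IsUnit.val_inv_mul, map_one, one_mul]⟩
  let I : Ideal (X.presheaf.stalk x) := Ideal.span {f.stalkMap x b}
  have hI : I ≠ ⊤ := fun h => hbu ((isUnit_map_iff (f.stalkMap x).hom b).1 (Ideal.span_singleton_eq_top.1 h))
  obtain ⟨P, hP⟩ := (Ideal.nonempty_minimalPrimes hI)
  haveI : P.IsPrime := hP.1.1
  have hPh : P.height = 1 := by
    refine le_antisymm ?_ ?_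
    · haveI : I.IsPrincipal := ⟨⟨_, rfl⟩⟩
      exact Ideal.height_le_one_of_isPrincipal_of_mem_minimalPrimes I P hP
    · rw [ENat.one_le_iff_ne_zero]
      intro h0
      have h1 := (Ideal.height_eq_zero_iff).1 h0
      rw [IsDomain.minimalPrimes_eq_singleton_bot] at h1
      have hmem : f.stalkMap x b ∈ P := hP.1.2 (Ideal.mem_span_singleton_self _)
      rw [Set.mem_singleton_iff.1 h1, Ideal.mem_bot] at hmem
      exact hb (hinj (hmem.trans (map_zero _).symm))
  let p : PrimeSpectrum (X.presheaf.stalk x) := ⟨P, inferInstance⟩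
  let q : PrimeSpectrum (Y.presheaf.stalk (f x)) := PrimeSpectrum.comap (f.stalkMap x).hom p
  have hq : (2 : ℕ∞) ≤ q.asIdeal.height := by
    refine two_le_height hrel.symm hb q.asIdeal ?_ (hP.1.2 (Ideal.mem_span_singleton_self _))
    show f.stalkMap x a ∈ P
    rw [← hab]
    exact P.mul_mem_right _ (hP.1.2 (Ideal.mem_span_singleton_self _))
  let w := EquidimLib.stalkPt x p
  have hfw : f w = EquidimLib.stalkPt (f x) q := by
    show (X.fromSpecStalk x ≫ f) p = (Y.fromSpecStalk (f x)) q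
    rw [← Scheme.SpecMap_stalkMap_fromSpecStalk]
    rfl
  have hw1 : ringKrullDim (X.presheaf.stalk w) = 1 := by
    rw [stalk_dim_stalkPt, hPh]
    rfl
  refine ⟨w, EquidimLib.stalkPt_specializes x p, fun V hV hiso => ?_, hw1⟩
  haveI := hiso
  haveI := isIso_stalkMap_of_isIso_restrict f hV
  have h2 := ringKrullDim_eq_of_ringEquiv (asIso (f.stalkMap w)).commRingCatIsoToRingEquiv
  rw [hw1, hfw, stalk_dim_stalkPt] at h2
  have : q.asIdeal.height = 1 := by exact_mod_cast h2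
  rw [this] at hq
  exact absurd hq (by decide)

end VdWPurityLib
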